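import Groth.Agent.Lib.Helper5.Lim.ProConsLimit
import Groth.Agent.Lib.Helper5.Lim.LimitPoints
import Mathlib

/-!
# S-subtrusive morphisms and limits, part A (helper5)

Lifting of specialization pairs to a cofiltered limit of affine schemes.
-/

set_option autoImplicit false
universe u
open CategoryTheory CategoryTheory.Limits AlgebraicGeometry Topology
open Groth.Agent.H2.ConsTop Groth.Agent.H2.ProConsLib
open scoped Set.Notation

namespace Groth.Agent.H5.Sub

open Groth.Agent.H5.Lim

lemma isProConstructible_inter {X : Scheme.{u}} {A B : Set X}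
    (hA : ProCons.IsProConstructible A) (hB : ProCons.IsProConstructible B) :
    ProCons.IsProConstructible (A ∩ B) := by
  refine isProConstructible_of_cc fun x => ?_
  obtain ⟨V, hV, hxV, -⟩ := exists_affine_nhd x isOpen_univ (Set.mem_univ x)
  obtain ⟨i1, i2, i3, i4⟩ := spectral_of_isAffineOpen hV
  refine ⟨V, hV, hxV, ?_⟩
  have h1 := cc_of_isProConstructible V.isOpen hA
  have h2 := cc_of_isProConstructible V.isOpen hB
  have : ((V : Set X) ↓∩ (A ∩ B)) = ((V : Set X) ↓∩ A) ∩ ((V : Set X) ↓∩ B) := by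
    ext v; simp
  rw [this]
  exact h1.inter h2

lemma isProConstructible_of_isClosed {X : Scheme.{u}} {A : Set X} (hA : IsClosed A) :
    ProCons.IsProConstructible A := by
  have := isProConstructible_compl (isIndConstructible_of_isOpen hA.isOpen_compl)
  rwa [compl_compl] at this

lemma isProConstructible_generizations {X : Scheme.{u}} [IsAffine X] (x : X) :
    ProCons.IsProConstructible {y : X | y ⤳ x} := by
  rw [← Scheme.range_fromSpecStalk]
  exact isProConstructible_range _

variable {J : Type u} [SmallCategory J] [IsCofiltered J] (E : J ⥤ Scheme.{u}) (cE : Cone E)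
  (hcE : IsLimit cE)

include hcE in
/-- A compatible family of nonempty pro-constructible subsets has a point in the limit. -/
theorem exists_mem_of_forall_nonempty [∀ j, IsAffine (E.obj j)] (G : ∀ j, Set (E.obj j))
    (hG : ∀ j, ProCons.IsProConstructible (G j))
    (hGm : ∀ (i j : J) (φ : i ⟶ j), G i ⊆ (E.map φ) ⁻¹' G j) (hne : ∀ j, (G j).Nonempty) :
    ∃ x : cE.pt, ∀ j, cE.π.app j x ∈ G j := by
  obtain ⟨j₀⟩ := IsCofiltered.nonempty (C := J)
  by_contra hcon
  push_neg at hcon
  have hsub : (⋂ i, (cE.π.app i) ⁻¹' G i : Set cE.pt) ⊆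
      (⋃ i, (cE.π.app i) ⁻¹' (fun i => (∅ : Set (E.obj i))) i : Set cE.pt) := by
    intro x hx
    obtain ⟨j, hj⟩ := hcon x
    exact absurd (Set.mem_iInter.mp hx j) hj
  obtain ⟨i, -, hi⟩ := (sInter_subset_sUnion_iff_eventually E cE hcE j₀ G
    (fun i => (∅ : Set (E.obj i))) hG
    (fun i => isIndConstructible_of_isOpen isOpen_empty) hGm
    (fun i j φ => by simp)).mp hsub
  obtain ⟨z, hz⟩ := hne i
  exact hi i (𝟙 i) hz

include hcE in
/-- Lifting specialization pairs to the limit of a system of affine schemes. -/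
theorem exists_specializing_pair_of_stages [∀ j, IsAffine (E.obj j)]
    (F F' : ∀ j, Set (E.obj j)) (hF : ∀ j, ProCons.IsProConstructible (F j))
    (hF' : ∀ j, ProCons.IsProConstructible (F' j))
    (hFm : ∀ (i j : J) (φ : i ⟶ j), F i ⊆ (E.map φ) ⁻¹' F j)
    (hF'm : ∀ (i j : J) (φ : i ⟶ j), F' i ⊆ (E.map φ) ⁻¹' F' j)
    (h : ∀ j, ∃ x ∈ F j, ∃ x' ∈ F' j, x' ⤳ x) :
    ∃ x x' : cE.pt, x' ⤳ x ∧ (∀ j, cE.π.app j x ∈ F j) ∧ (∀ j, cE.π.app j x' ∈ F' j) := by
  have hEaff : ∀ (i j : J) (f : i ⟶ j), IsAffineHom (E.map f) := fun i j f => inferInstance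
  -- Step 1: the point `x`
  obtain ⟨x, hx⟩ := exists_mem_of_forall_nonempty E cE hcE (fun j => F j ∩ closure (F' j))
    (fun j => isProConstructible_inter (hF j) (isProConstructible_of_isClosed isClosed_closure))
    (fun i j φ z hz => ⟨hFm i j φ hz.1, by
      have h1 : closure (F' i) ⊆ (E.map φ) ⁻¹' closure (F' j) := by
        refine closure_minimal ?_ (isClosed_closure.preimage (E.map φ).continuous)
        exact fun w hw => subset_closure (hF'm i j φ hw)
      exact h1 hz.2⟩)
    (fun j => by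
      obtain ⟨z, hz, z', hz', hzz'⟩ := h j
      exact ⟨z, hz, closure_mono (Set.singleton_subset_iff.mpr hz')
        (specializes_iff_mem_closure.mp hzz')⟩)
  -- Step 2: the point `x'`
  obtain ⟨x', hx'⟩ := exists_mem_of_forall_nonempty E cE hcE
    (fun j => F' j ∩ {z | z ⤳ cE.π.app j x})
    (fun j => isProConstructible_inter (hF' j) (isProConstructible_generizations _))
    (fun i j φ z hz => ⟨hF'm i j φ hz.1, by
      have h1 : (E.map φ) z ⤳ (E.map φ) (cE.π.app i x) := hz.2.map (E.map φ).continuous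
      have h2 : (E.map φ) (cE.π.app i x) = cE.π.app j x := by
        rw [← Scheme.Hom.comp_apply, cE.w]
      rw [h2] at h1
      exact h1⟩)
    (fun j => by
      obtain ⟨z, hz, hzx⟩ := exists_specializes_of_mem_closure (hF' j) (hx j).2
      exact ⟨z, hz, hzx⟩)
  refine ⟨x, x', ?_, fun j => (hx j).1, fun j => (hx' j).1⟩
  exact (specializes_iff_forall_π_app E cE hcE x' x).mpr fun j => (hx' j).2

end Groth.Agent.H5.Sub
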