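import Groth.Agent.Lib.Helper5.Sub.SubA
import Groth.Agent.Lib.Helper5.Lim.BaseChangeOver
import Groth.Prelude.Def_W4c2submetdescSubtr
import Mathlib

/-!
# S-subtrusive morphisms and limits, part B (helper5)
-/

set_option autoImplicit false
universe u
open CategoryTheory CategoryTheory.Limits AlgebraicGeometry Topology

namespace Groth.Agent.H5.Sub

open Groth.Agent.H5.Lim Groth.Agent.H2.ProConsLib

section TbcBase

variable {I : Type u} [SmallCategory I] (D : I ⥤ Scheme.{u}) {S : Scheme.{u}}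
  (t : D ⟶ (Functor.const I).obj S) {T T' : Scheme.{u}} (q : T ⟶ S) (r : T' ⟶ T)

/-- The map of base-changed systems induced by `r : T' ⟶ T`. -/
noncomputable def tbcBase (k : I) : pullback (r ≫ q) (t.app k) ⟶ pullback q (t.app k) :=
  pullback.lift (pullback.fst (r ≫ q) (t.app k) ≫ r) (pullback.snd (r ≫ q) (t.app k))
    (by rw [Category.assoc]; exact pullback.condition)

@[reassoc (attr := simp)]
lemma tbcBase_fst (k : I) : tbcBase D t q r k ≫ pullback.fst q (t.app k) =
    pullback.fst (r ≫ q) (t.app k) ≫ r := pullback.lift_fst _ _ _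

@[reassoc (attr := simp)]
lemma tbcBase_snd (k : I) : tbcBase D t q r k ≫ pullback.snd q (t.app k) =
    pullback.snd (r ≫ q) (t.app k) := pullback.lift_snd _ _ _

lemma tbcBase_naturality {j k : I} (a : j ⟶ k) :
    tbcMap D t (r ≫ q) a ≫ tbcBase D t q r k = tbcBase D t q r j ≫ tbcMap D t q a := by
  apply pullback.hom_ext
  · rw [Category.assoc, tbcBase_fst, tbcMap_fst_assoc, Category.assoc, tbcMap_fst, tbcBase_fst]
  · rw [Category.assoc, tbcBase_snd, tbcMap_snd, Category.assoc, tbcMap_snd, tbcBase_snd_assoc]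

variable (c : Cone D) (p : c.pt ⟶ S) (hp : ∀ k, c.π.app k ≫ t.app k = p)

/-- The map of base-changed limits induced by `r : T' ⟶ T`. -/
noncomputable def tbcBaseLim : pullback (r ≫ q) p ⟶ pullback q p :=
  pullback.lift (pullback.fst (r ≫ q) p ≫ r) (pullback.snd (r ≫ q) p)
    (by rw [Category.assoc]; exact pullback.condition)

@[reassoc (attr := simp)]
lemma tbcBaseLim_fst : tbcBaseLim D q r c p ≫ pullback.fst q p = pullback.fst (r ≫ q) p ≫ r :=
  pullback.lift_fst _ _ _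

@[reassoc (attr := simp)]
lemma tbcBaseLim_snd : tbcBaseLim D q r c p ≫ pullback.snd q p = pullback.snd (r ≫ q) p :=
  pullback.lift_snd _ _ _

lemma tbcBaseLim_proj (k : I) :
    tbcBaseLim D q r c p ≫ tbcProj D t q c p hp k =
      tbcProj D t (r ≫ q) c p hp k ≫ tbcBase D t q r k := by
  apply pullback.hom_ext
  · rw [Category.assoc, tbcProj_fst, tbcBaseLim_fst, Category.assoc, tbcBase_fst,
      tbcProj_fst_assoc]
  · rw [Category.assoc, tbcProj_snd, tbcBaseLim_snd_assoc, Category.assoc, tbcBase_snd,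
      tbcProj_snd]

end TbcBase

section Main

variable {I : Type u} [SmallCategory I] [IsCofiltered I] (D : I ⥤ Scheme.{u}) (c : Cone D)
  (hc : IsLimit c)

include hc in
/-- The lifting property for ordered pairs of points passes to the limit. -/
theorem isSSubtrusive_limit_of_eventually
    [∀ (i j : I) (a : i ⟶ j), IsAffineHom (D.map a)] (i₀ : I)
    {X₀ Y₀ : Scheme.{u}} (f₀ : X₀ ⟶ Y₀) (g₀ : Y₀ ⟶ D.obj i₀) [QuasiCompact f₀]
    (h : ∃ (i₁ : I) (ψ : i₁ ⟶ i₀), ∀ (i : I) (φ : i ⟶ i₁),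
      Subtr.IsSSubtrusive (pullback.snd f₀ (pullback.fst g₀ (D.map (φ ≫ ψ))))) :
    Subtr.IsSSubtrusive (pullback.snd f₀ (pullback.fst g₀ (c.π.app i₀))) := by
  classical
  obtain ⟨i₁, ψ, h⟩ := h
  -- the system over `Over i₁`
  let D' : Over i₁ ⥤ Scheme.{u} := Over.forget i₁ ⋙ D
  let c' : Cone D' := c.whisker (Over.forget i₁)
  have hc' : IsLimit c' := (Functor.Initial.isLimitWhiskerEquiv (Over.forget i₁) c).symm hc
  let t : D' ⟶ (Functor.const (Over i₁)).obj (D.obj i₀) :=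
    { app := fun k => D.map (k.hom ≫ ψ)
      naturality := fun j k a => by
        change D.map a.left ≫ D.map (k.hom ≫ ψ) = D.map (j.hom ≫ ψ) ≫ 𝟙 _
        rw [Category.comp_id, ← D.map_comp, ← Category.assoc, Over.w a] }
  let p : c.pt ⟶ D.obj i₀ := c.π.app i₀
  have hp : ∀ k, c'.π.app k ≫ t.app k = p := fun k => c.w (k.hom ≫ ψ)
  have hD'aff : ∀ (j k : Over i₁) (a : j ⟶ k), IsAffineHom (D'.map a) :=
    fun j k a => inferInstanceAs (IsAffineHom (D.map a.left))
  have haffY : ∀ (j k : Over i₁) (a : j ⟶ k), IsAffineHom ((tbcDiagram D' t g₀).map a) :=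
    fun j k a => isAffineHom_tbcMap D' t g₀ a (hD'aff j k a)
  have hlimY : IsLimit (tbcCone D' t g₀ c' p hp) := isLimitTbcCone D' t g₀ c' p hp hc'
  intro y y' hyy'
  -- the images at the stages
  let yk : ∀ k : Over i₁, ↥(pullback g₀ (t.app k)) := fun k => tbcProj D' t g₀ c' p hp k y
  let yk' : ∀ k : Over i₁, ↥(pullback g₀ (t.app k)) := fun k => tbcProj D' t g₀ c' p hp k y'
  have hyk : ∀ k, yk' k ⤳ yk k := fun k => hyy'.map (tbcProj D' t g₀ c' p hp k).continuous
  have hykm : ∀ (j k : Over i₁) (a : j ⟶ k), tbcMap D' t g₀ a (yk j) = yk k := fun j k a => by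
    change tbcMap D' t g₀ a (tbcProj D' t g₀ c' p hp j y) = tbcProj D' t g₀ c' p hp k y
    rw [← Scheme.Hom.comp_apply]
    exact congrArg (fun m : pullback g₀ p ⟶ pullback g₀ (t.app k) => m y)
      ((tbcCone D' t g₀ c' p hp).w a)
  have hykm' : ∀ (j k : Over i₁) (a : j ⟶ k), tbcMap D' t g₀ a (yk' j) = yk' k := fun j k a => by
    change tbcMap D' t g₀ a (tbcProj D' t g₀ c' p hp j y') = tbcProj D' t g₀ c' p hp k y'
    rw [← Scheme.Hom.comp_apply]
    exact congrArg (fun m : pullback g₀ p ⟶ pullback g₀ (t.app k) => m y')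
      ((tbcCone D' t g₀ c' p hp).w a)
  -- an affine open neighbourhood of the image in `Y₀` and a finite affine cover of its preimage
  let y₀ : Y₀ := pullback.fst g₀ p y
  obtain ⟨_, ⟨V₀, hV₀, rfl⟩, hyV, -⟩ :=
    (Y₀.isBasis_affineOpens).exists_subset_of_mem_open (Set.mem_univ y₀) isOpen_univ
  have hcpt : IsCompact (f₀ ⁻¹' (V₀ : Set Y₀)) :=
    QuasiCompact.isCompact_preimage _ V₀.isOpen hV₀.isCompact
  obtain ⟨s, hsfin, hs⟩ := isCompact_and_isOpen_iff_finite_and_eq_biUnion_affineOpens.mp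
    ⟨hcpt, V₀.isOpen.preimage f₀.continuous⟩
  -- the property "the affine open `U` carries a lifting pair at stage `k`"
  let Works : X₀.affineOpens → Over i₁ → Prop := fun U k =>
    ∃ x x' : ↥(pullback ((U.1.ι ≫ f₀) ≫ g₀) (t.app k)), x' ⤳ x ∧
      tbcBase D' t g₀ (U.1.ι ≫ f₀) k x = yk k ∧ tbcBase D' t g₀ (U.1.ι ≫ f₀) k x' = yk' k
  -- (A) at every stage some member of the cover works
  have hA : ∀ k : Over i₁, ∃ U ∈ s, Works U k := by
    intro k
    obtain ⟨x, x', hxx', hx, hx'⟩ := h k.left k.hom (hyk k)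
    let fk := pullback.snd f₀ (pullback.fst g₀ (t.app k))
    let x₀ : X₀ := pullback.fst f₀ (pullback.fst g₀ (t.app k)) x
    have hx₀ : f₀ x₀ = y₀ := by
      change f₀ (pullback.fst f₀ (pullback.fst g₀ (t.app k)) x) = pullback.fst g₀ p y
      rw [← Scheme.Hom.comp_apply, pullback.condition, Scheme.Hom.comp_apply]
      change pullback.fst g₀ (t.app k) (fk x) = _
      have : fk x = yk k := hx
      rw [this]
      change pullback.fst g₀ (t.app k) (tbcProj D' t g₀ c' p hp k y) = _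
      rw [← Scheme.Hom.comp_apply, tbcProj_fst]
    have hx₀V : x₀ ∈ f₀ ⁻¹' (V₀ : Set Y₀) := by
      change f₀ x₀ ∈ V₀
      rw [hx₀]; exact hyV
    rw [hs] at hx₀V
    simp only [Set.mem_iUnion] at hx₀V
    obtain ⟨U, hUs, hxU⟩ := hx₀V
    refine ⟨U, hUs, ?_⟩
    have hx'U : pullback.fst f₀ (pullback.fst g₀ (t.app k)) x' ∈ U.1 :=
      (hxx'.map (pullback.fst f₀ (pullback.fst g₀ (t.app k))).continuous).mem_open U.1.isOpen hxU
    -- the open immersion into `X_k`
    let r := U.1.ι ≫ f₀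
    let mk : pullback (r ≫ g₀) (t.app k) ⟶ pullback f₀ (pullback.fst g₀ (t.app k)) :=
      pullback.lift (pullback.fst (r ≫ g₀) (t.app k) ≫ U.1.ι) (tbcBase D' t g₀ r k) (by
        rw [tbcBase_fst]; exact Category.assoc _ _ _)
    have hm1 : mk ≫ pullback.fst f₀ (pullback.fst g₀ (t.app k)) =
        pullback.fst (r ≫ g₀) (t.app k) ≫ U.1.ι := pullback.lift_fst _ _ _
    have hm2 : mk ≫ fk = tbcBase D' t g₀ r k := pullback.lift_snd _ _ _
    have hbot : IsPullback (pullback.fst f₀ (pullback.fst g₀ (t.app k)))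
        (fk ≫ pullback.snd g₀ (t.app k)) (f₀ ≫ g₀) (t.app k) :=
      (IsPullback.of_hasPullback f₀ _).paste_vert (IsPullback.of_hasPullback g₀ (t.app k))
    have hsq : IsPullback (pullback.fst (r ≫ g₀) (t.app k)) mk U.1.ι
        (pullback.fst f₀ (pullback.fst g₀ (t.app k))) := by
      refine IsPullback.of_bot ?_ hm1.symm hbot
      have e1 : mk ≫ fk ≫ pullback.snd g₀ (t.app k) = pullback.snd (r ≫ g₀) (t.app k) := by
        rw [← Category.assoc, hm2, tbcBase_snd]
      have e2 : U.1.ι ≫ f₀ ≫ g₀ = r ≫ g₀ := (Category.assoc _ _ _).symm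
      rw [e1, e2]
      exact IsPullback.of_hasPullback _ _
    haveI : IsOpenImmersion mk :=
      MorphismProperty.of_isPullback (P := @IsOpenImmersion) hsq inferInstance
    obtain ⟨z, -, hz⟩ := Scheme.exists_preimage_of_isPullback hsq (⟨x₀, hxU⟩ : ↥U.1) x rfl
    obtain ⟨z', -, hz'⟩ := Scheme.exists_preimage_of_isPullback hsq
      (⟨pullback.fst f₀ (pullback.fst g₀ (t.app k)) x', hx'U⟩ : ↥U.1) x' rfl
    refine ⟨z, z', ?_, ?_, ?_⟩
    · rw [← mk.isOpenEmbedding.toIsInducing.specializes_iff, hz, hz']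
      exact hxx'
    · change tbcBase D' t g₀ r k z = yk k
      rw [← hm2, Scheme.Hom.comp_apply, hz]; exact hx
    · change tbcBase D' t g₀ r k z' = yk' k
      rw [← hm2, Scheme.Hom.comp_apply, hz']; exact hx'
  -- (B) monotonicity
  have hB : ∀ (U : X₀.affineOpens) (j k : Over i₁) (a : j ⟶ k), Works U j → Works U k := by
    rintro U j k a ⟨x, x', hxx', hx, hx'⟩
    refine ⟨tbcMap D' t ((U.1.ι ≫ f₀) ≫ g₀) a x, tbcMap D' t ((U.1.ι ≫ f₀) ≫ g₀) a x',
      hxx'.map (tbcMap D' t ((U.1.ι ≫ f₀) ≫ g₀) a).continuous, ?_, ?_⟩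
    · rw [← Scheme.Hom.comp_apply, tbcBase_naturality, Scheme.Hom.comp_apply, hx, hykm]
    · rw [← Scheme.Hom.comp_apply, tbcBase_naturality, Scheme.Hom.comp_apply, hx', hykm']
  -- (C) pigeonhole
  have hC : ∃ U ∈ s, ∀ k, Works U k := by
    haveI : Nonempty (Over i₁) := ⟨Over.mk (𝟙 i₁)⟩
    by_contra hcon
    push Not at hcon
    choose! kU hkU using hcon
    obtain ⟨k, hk⟩ := IsCofiltered.inf_objs_exists (hsfin.toFinset.image kU)
    obtain ⟨U, hUs, hU⟩ := hA k
    have : Nonempty (k ⟶ kU U) :=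
      hk (Finset.mem_image_of_mem kU (hsfin.mem_toFinset.mpr hUs))
    exact hkU U hUs (hB U k (kU U) this.some hU)
  obtain ⟨U, -, hU⟩ := hC
  -- (D) lift to the limit
  let r := U.1.ι ≫ f₀
  haveI : IsAffine (U.1 : Scheme.{u}) := U.2
  have haffE : ∀ k : Over i₁, IsAffine ((tbcDiagram D' t (r ≫ g₀)).obj k) := fun k => by
    haveI : IsAffineHom (t.app k) := inferInstanceAs (IsAffineHom (D.map (k.hom ≫ ψ)))
    haveI : IsAffineHom (pullback.fst (r ≫ g₀) (t.app k)) :=
      MorphismProperty.pullback_fst (P := @IsAffineHom) _ _ this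
    have h1 : IsAffine (pullback (r ≫ g₀) (t.app k)) :=
      isAffine_of_isAffineHom (pullback.fst (r ≫ g₀) (t.app k))
    exact h1
  obtain ⟨x, x', hxx', hx, hx'⟩ := exists_specializing_pair_of_stages (tbcDiagram D' t (r ≫ g₀))
    (tbcCone D' t (r ≫ g₀) c' p hp) (isLimitTbcCone D' t (r ≫ g₀) c' p hp hc')
    (fun k => (tbcBase D' t g₀ r k) ⁻¹' {yk k}) (fun k => (tbcBase D' t g₀ r k) ⁻¹' {yk' k})
    (fun k => isProConstructible_preimage _ (isProConstructible_singleton _))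
    (fun k => isProConstructible_preimage _ (isProConstructible_singleton _))
    (fun j k a z hz => by
      change tbcBase D' t g₀ r k (tbcMap D' t (r ≫ g₀) a z) = yk k
      have hz' : tbcBase D' t g₀ r j z = yk j := hz
      rw [← Scheme.Hom.comp_apply, tbcBase_naturality, Scheme.Hom.comp_apply, hz', hykm])
    (fun j k a z hz => by
      change tbcBase D' t g₀ r k (tbcMap D' t (r ≫ g₀) a z) = yk' k
      have hz' : tbcBase D' t g₀ r j z = yk' j := hz
      rw [← Scheme.Hom.comp_apply, tbcBase_naturality, Scheme.Hom.comp_apply, hz', hykm'])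
    (fun k => by
      obtain ⟨z, z', hzz', hz, hz'⟩ := hU k
      exact ⟨z, hz, z', hz', hzz'⟩)
  -- (E) map to `X`
  let m : pullback (r ≫ g₀) p ⟶ pullback f₀ (pullback.fst g₀ p) :=
    pullback.lift (pullback.fst (r ≫ g₀) p ≫ U.1.ι) (tbcBaseLim D' g₀ r c' p) (by
      rw [tbcBaseLim_fst]; exact Category.assoc _ _ _)
  have hm2 : m ≫ pullback.snd f₀ (pullback.fst g₀ p) = tbcBaseLim D' g₀ r c' p :=
    pullback.lift_snd _ _ _
  have hlim : ∀ w : ↥(pullback (r ≫ g₀) p), ∀ w' : ↥(pullback g₀ p),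
      (∀ k, tbcBase D' t g₀ r k (tbcProj D' t (r ≫ g₀) c' p hp k w) =
        tbcProj D' t g₀ c' p hp k w') →
      pullback.snd f₀ (pullback.fst g₀ p) (m w) = w' := by
    intro w w' hw
    refine ext_of_π_app_eq (tbcDiagram D' t g₀) (tbcCone D' t g₀ c' p hp) hlimY _ _ fun k => ?_
    change tbcProj D' t g₀ c' p hp k (pullback.snd f₀ (pullback.fst g₀ p) (m w)) =
      tbcProj D' t g₀ c' p hp k w'
    have hmor : m ≫ pullback.snd f₀ (pullback.fst g₀ p) ≫ tbcProj D' t g₀ c' p hp k =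
        tbcProj D' t (r ≫ g₀) c' p hp k ≫ tbcBase D' t g₀ r k := by
      rw [← Category.assoc, hm2, tbcBaseLim_proj D' t g₀ r c' p hp k]
    rw [← hw k, ← Scheme.Hom.comp_apply, ← Scheme.Hom.comp_apply, ← Scheme.Hom.comp_apply, hmor]
  exact ⟨m x, m x', hxx'.map m.continuous, hlim x y (fun k => hx k), hlim x' y' (fun k => hx' k)⟩

end Main

end Groth.Agent.H5.Sub
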